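import Mathlib

set_option linter.style.haveILetI false
set_option linter.unusedVariables false
set_option linter.unusedSectionVars false
set_option autoImplicit false
set_option backward.isDefEq.respectTransparency.types false

universe u

/-! helper7: maximal generizations exist in quasi-sober spaces; on a locally Noetherian scheme a function constant along specializations is locally constant -/

namespace Groth.Agent.Helper7.DimFun

open CategoryTheory CategoryTheory.Limits AlgebraicGeometry TopologicalSpace

section Top

variable {α : Type*} [TopologicalSpace α]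

/-- every point of a quasi-sober space is a specialization of a point which is maximal under
generization -/
theorem exists_maximal_specializes [QuasiSober α] [T0Space α] (x : α) :
    ∃ ζ : α, (∀ ζ' : α, ζ' ⤳ ζ → ζ' = ζ) ∧ ζ ⤳ x := by
  have hirr : IsIrreducible (irreducibleComponent x) := isIrreducible_irreducibleComponent
  have hcl : IsClosed (irreducibleComponent x) := isClosed_irreducibleComponent
  have hgen := hirr.isGenericPoint_genericPoint hcl
  refine ⟨hirr.genericPoint, ?_, hgen.specializes mem_irreducibleComponent⟩
  intro ζ' hζ'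
  have h1 : irreducibleComponent x ⊆ closure {ζ'} := by
    rw [← hgen.def]
    exact specializes_iff_closure_subset.mp hζ'
  have h2 : closure {ζ'} = irreducibleComponent x := by
    apply subset_antisymm
    · have hmem := irreducibleComponent_mem_irreducibleComponents x
      exact hmem.2 (isIrreducible_singleton.closure) h1
    · exact h1
  have h3 : IsGenericPoint ζ' (irreducibleComponent x) := h2
  exact h3.eq hgen

end Top

section Sch

/-- on a locally Noetherian scheme, a function which is constant along specializations is locally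
constant -/
theorem isLocallyConstant_of_specializes {X : Scheme.{u}} [IsLocallyNoetherian X] {β : Type*}
    (c : X → β) (hc : ∀ x y : X, x ⤳ y → c x = c y) : IsLocallyConstant c := by
  rw [IsLocallyConstant.iff_isOpen_fiber]
  intro a
  rw [isOpen_iff_forall_mem_open]
  intro x hx
  obtain ⟨W, hW, hxW, -⟩ := exists_isAffineOpen_mem_and_subset (x := x) (U := ⊤) trivial
  haveI : IsNoetherianRing Γ(X, W) := IsLocallyNoetherian.component_noetherian ⟨W, hW⟩
  obtain ⟨W', hW'⟩ : ∃ W' : Set X, W' = (W : Set X) := ⟨_, rfl⟩
  have hW'open : IsOpen W' := hW' ▸ W.2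
  have hxW' : x ∈ W' := hW' ▸ hxW
  haveI : NoetherianSpace ↥W' := by
    subst hW'
    exact noetherianSpace_of_isAffineOpen W hW
  have hfin : (irreducibleComponents ↥W').Finite := NoetherianSpace.finite_irreducibleComponents
  -- the function is constant on each irreducible subset
  have hconst : ∀ Z : Set ↥W', IsIrreducible Z → ∀ z₁ ∈ Z, ∀ z₂ ∈ Z, c z₁.1 = c z₂.1 := by
    intro Z hZ z₁ hz₁ z₂ hz₂
    have hirr : IsIrreducible (Subtype.val '' Z) := hZ.image _ continuous_subtype_val.continuousOn
    have hgen := hirr.isGenericPoint_genericPoint_closure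
    have h1 := hgen.specializes (subset_closure ⟨z₁, hz₁, rfl⟩)
    have h2 := hgen.specializes (subset_closure ⟨z₂, hz₂, rfl⟩)
    rw [← hc _ _ h1, ← hc _ _ h2]
  -- the union of the irreducible components on which the value is not `a`
  obtain ⟨T, hTdef⟩ : ∃ T : Set ↥W',
    T = ⋃₀ {Z ∈ irreducibleComponents ↥W' | ∃ z ∈ Z, c z.1 ≠ a} := ⟨_, rfl⟩
  have hT : IsClosed T := by
    rw [hTdef, Set.sUnion_eq_biUnion]
    apply Set.Finite.isClosed_biUnion (hfin.subset (fun Z hZ => hZ.1))
    intro Z hZ
    exact isClosed_of_mem_irreducibleComponents Z hZ.1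
  refine ⟨Subtype.val '' Tᶜ, ?_, ?_, ?_⟩
  · rintro _ ⟨y, hy, rfl⟩
    change c y.1 = a
    by_contra hne
    apply hy
    rw [hTdef, Set.mem_sUnion]
    exact ⟨irreducibleComponent y, ⟨irreducibleComponent_mem_irreducibleComponents y,
      y, mem_irreducibleComponent, hne⟩, mem_irreducibleComponent⟩
  · exact hW'open.isOpenMap_subtype_val _ hT.isOpen_compl
  · refine ⟨⟨x, hxW'⟩, ?_, rfl⟩
    intro hxT
    rw [hTdef, Set.mem_sUnion] at hxT
    obtain ⟨Z, ⟨hZ, z, hz, hne⟩, hxZ⟩ := hxT
    apply hne
    rw [hconst Z hZ.1 z hz ⟨x, hxW'⟩ hxZ]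
    exact hx

end Sch

end Groth.Agent.Helper7.DimFun
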