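import Mathlib
import Groth.Prelude
import Groth.Agent.Lib.Helper8.Depth7
import Groth.Agent.Lib.Helper7.DimFun.LocConst

set_option linter.style.haveILetI false
set_option linter.unusedVariables false
set_option linter.unusedSectionVars false
set_option autoImplicit false
set_option backward.isDefEq.respectTransparency.types false

universe u

/-! helper7: helper7: dimension functions and coheight in the local ring; Cohen--Macaulay local rings make maximal generizations equidimensional (S6461 core) -/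

namespace Groth.Agent.Helper7.DimFun

open CategoryTheory CategoryTheory.Limits AlgebraicGeometry TopologicalSpace

section Ord

/-- a function on a partial order with a top element which drops by one along covers is
the coheight up to a constant -/
theorem eq_add_coheight {P : Type*} [PartialOrder P] (d : P → ℤ) (m : P) (hm : ∀ a, a ≤ m)
    (h2 : ∀ a b : P, a ⋖ b → d a = d b + 1) :
    ∀ (n : ℕ) (a : P), Order.coheight a = n → d a = d m + n := by
  intro n
  induction n with
  | zero =>
    intro a ha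
    have h0 : Order.coheight a = 0 := by simpa using ha
    rw [Order.coheight_eq_zero] at h0
    have : a = m := le_antisymm (hm a) (h0 (hm a))
    rw [this]; simp
  | succ n ih =>
    intro a ha
    have ha' : Order.coheight a = (n : ℕ∞) + 1 := by simpa using ha
    rw [Order.coheight_eq_coe_add_one_iff] at ha'
    obtain ⟨hfin, ⟨y, hy, hyn⟩, hall⟩ := ha'
    have hcov : a ⋖ y := by
      refine ⟨hy, ?_⟩
      intro c hac hcy
      have h1 := hall c hac
      have h3 := Order.coheight_add_one_le hcy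
      rw [hyn] at h3
      have h4 : ((n : ℕ∞) + 1) ≤ n := h3.trans h1
      have h5 : (n + 1 : ℕ) ≤ n := by exact_mod_cast h4
      omega
    rw [h2 a y hcov, ih y hyn]
    push_cast
    ring

end Ord

section Alg

variable {A : Type u} [CommRing A]

theorem coheight_eq_ringKrullDim_quotient (p : PrimeSpectrum A) :
    ((Order.coheight p : ℕ∞) : WithBot ℕ∞) = ringKrullDim (A ⧸ p.asIdeal) := by
  rw [ringKrullDim_quotient, Order.coheight_eq_krullDim_Ici]
  have : PrimeSpectrum.zeroLocus (p.asIdeal : Set A) = Set.Ici p := by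
    ext x
    rw [PrimeSpectrum.mem_zeroLocus, Set.mem_Ici]
    exact Iff.rfl
  rw [this]

theorem ringKrullDim_quotient_minimalPrime_of_CM [LocCoh.IsCohenMacaulayLocalRing A]
    (p : Ideal A) (hp : p ∈ minimalPrimes A) :
    ringKrullDim (A ⧸ p) = ringKrullDim A := by
  apply le_antisymm (ringKrullDim_quotient_le p)
  have hass : p ∈ associatedPrimes A A := by
    apply Module.associatedPrimes.minimalPrimes_annihilator_subset_associatedPrimes
    rw [Module.annihilator_eq_bot.mpr inferInstance]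
    exact hp
  have h1 := Groth.Agent.Helper8.Depth.depth_le_dim_quotient_associatedPrime (A := A) (M := A) p hass
  rw [← LocCoh.IsCohenMacaulayLocalRing.supportDim_eq_depth] at h1
  rwa [Module.supportDim_self_eq_ringKrullDim] at h1

end Alg

section Sch

variable {X : Scheme.{u}}

/-- for a dimension function, the value at a maximal generization of `y` is `δ y` plus the
dimension of the quotient of the local ring at `y` by the corresponding minimal prime -/
theorem delta_maximal_generization (δ : X → ℤ) (hδ : Cyc.IsDimFun X δ) (y : X)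
    [IsNoetherianRing (X.presheaf.stalk y)]
    (ζ : X) (hζ : ∀ ζ' : X, ζ' ⤳ ζ → ζ' = ζ) (hζy : ζ ⤳ y) :
    ∃ (p : PrimeSpectrum (X.presheaf.stalk y)) (n : ℕ), p.asIdeal ∈ minimalPrimes (X.presheaf.stalk y) ∧
      ringKrullDim (X.presheaf.stalk y ⧸ p.asIdeal) = n ∧ δ ζ = δ y + n := by
  have hrange : ζ ∈ Set.range (X.fromSpecStalk y) := by
    rw [Scheme.range_fromSpecStalk]
    exact hζy
  obtain ⟨p, hp⟩ : ∃ p : PrimeSpectrum (X.presheaf.stalk y), (X.fromSpecStalk y) p = ζ := hrange
  have emb : Topology.IsEmbedding (X.fromSpecStalk y) := (X.fromSpecStalk y).isEmbedding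
  have hspec : ∀ q q' : PrimeSpectrum (X.presheaf.stalk y),
      q ≤ q' ↔ (X.fromSpecStalk y) q ⤳ (X.fromSpecStalk y) q' := by
    intro q q'
    rw [PrimeSpectrum.le_iff_specializes]
    exact (emb.isInducing.specializes_iff (x := q) (y := q')).symm
  have hm : ∀ a : PrimeSpectrum (X.presheaf.stalk y), a ≤ IsLocalRing.closedPoint _ := by
    intro a
    exact IsLocalRing.le_maximalIdeal a.2.ne_top
  have hfin : Order.coheight p < ⊤ := Order.coheight_lt_top p
  obtain ⟨n, hn⟩ := ENat.ne_top_iff_exists.mp hfin.ne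
  have key := eq_add_coheight (fun q : PrimeSpectrum (X.presheaf.stalk y) => δ ((X.fromSpecStalk y) q))
    (IsLocalRing.closedPoint _) hm ?_ n p hn.symm
  · refine ⟨p, n, ?_, ?_, ?_⟩
    · refine ⟨⟨p.2, bot_le⟩, ?_⟩
      rintro q ⟨hq, -⟩ hqp
      have h1 : (⟨q, hq⟩ : PrimeSpectrum (X.presheaf.stalk y)) ≤ p := hqp
      rw [hspec, hp] at h1
      have h2 := hζ _ h1
      rw [← hp] at h2
      have h3 := emb.injective h2
      rw [← h3]
    · rw [← coheight_eq_ringKrullDim_quotient, ← hn]
      rfl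
    · have := key
      simp only [Scheme.fromSpecStalk_closedPoint, hp] at this
      exact this
  · intro a b hab
    have h1 : (X.fromSpecStalk y) a ⤳ (X.fromSpecStalk y) b := (hspec a b).mp hab.le
    have hne : (X.fromSpecStalk y) a ≠ (X.fromSpecStalk y) b := fun h => hab.lt.ne (emb.injective h)
    refine (hδ _ _ h1 hne).2 ?_
    intro z hz1 hz2
    have hzr : z ∈ Set.range (X.fromSpecStalk y) := by
      rw [Scheme.range_fromSpecStalk]
      have hb : (X.fromSpecStalk y) b ∈ Set.range (X.fromSpecStalk y) := Set.mem_range_self b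
      rw [Scheme.range_fromSpecStalk] at hb
      exact hz2.trans hb
    obtain ⟨c, rfl⟩ := hzr
    rw [← hspec] at hz1 hz2
    rcases eq_or_lt_of_le hz1 with h | h
    · left; rw [h]
    · rcases eq_or_lt_of_le hz2 with h' | h'
      · right; rw [h']
      · exact absurd h' (hab.2 h)

/-- on a scheme with a dimension function and Cohen--Macaulay local rings, all maximal
generizations of a point have the same value -/
theorem delta_eq_of_maximal_generization (δ : X → ℤ) (hδ : Cyc.IsDimFun X δ) (y : X)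
    [LocCoh.IsCohenMacaulayLocalRing (X.presheaf.stalk y)]
    (ζ₁ ζ₂ : X) (hζ₁ : ∀ ζ' : X, ζ' ⤳ ζ₁ → ζ' = ζ₁) (hζy₁ : ζ₁ ⤳ y)
    (hζ₂ : ∀ ζ' : X, ζ' ⤳ ζ₂ → ζ' = ζ₂) (hζy₂ : ζ₂ ⤳ y) : δ ζ₁ = δ ζ₂ := by
  obtain ⟨p₁, n₁, hp₁, hn₁, e₁⟩ := delta_maximal_generization δ hδ y ζ₁ hζ₁ hζy₁
  obtain ⟨p₂, n₂, hp₂, hn₂, e₂⟩ := delta_maximal_generization δ hδ y ζ₂ hζ₂ hζy₂
  rw [ringKrullDim_quotient_minimalPrime_of_CM _ hp₁] at hn₁
  rw [ringKrullDim_quotient_minimalPrime_of_CM _ hp₂] at hn₂
  have h : ((n₁ : ℕ) : WithBot ℕ∞) = (n₂ : ℕ) := hn₁.symm.trans hn₂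
  have h' : n₁ = n₂ := by exact_mod_cast h
  rw [e₁, e₂, h']

/-- S6461 core -/
theorem locally_equidimensional_of_CM (δ : X → ℤ) [IsLocallyNoetherian X] (hδ : Cyc.IsDimFun X δ)
    (hCM : ∀ x : X, LocCoh.IsCohenMacaulayLocalRing (X.presheaf.stalk x)) (x : X) :
    ∃ (U : X.Opens) (n : ℤ), x ∈ U ∧
      ∀ ξ : X, ξ ∈ U → (∀ ξ' : X, ξ' ⤳ ξ → ξ' = ξ) → δ ξ = n := by
  classical
  have hex : ∀ y : X, ∃ ζ : X, (∀ ζ' : X, ζ' ⤳ ζ → ζ' = ζ) ∧ ζ ⤳ y :=
    fun y => exists_maximal_specializes y
  choose g hg1 hg2 using hex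
  have hc : ∀ a b : X, a ⤳ b → δ (g a) = δ (g b) := by
    intro a b hab
    haveI := hCM b
    exact delta_eq_of_maximal_generization δ hδ b (g a) (g b) (hg1 a) ((hg2 a).trans hab)
      (hg1 b) (hg2 b)
  have hlc := isLocallyConstant_of_specializes (fun y => δ (g y)) hc
  have hopen : IsOpen ((fun y => δ (g y)) ⁻¹' {δ (g x)}) := hlc.isOpen_fiber _
  refine ⟨⟨_, hopen⟩, δ (g x), rfl, ?_⟩
  intro ξ hξ hmax
  have h1 : δ (g ξ) = δ (g x) := hξ
  rw [← h1, hmax _ (hg2 ξ)]

end Sch

end Groth.Agent.Helper7.DimFun
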